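import Cfsg.Agent.H117.PSq.SevenC

set_option autoImplicit false
set_option linter.unusedSectionVars false

open Cfsg Subgroup

namespace Cfsg.Agent.H117.PSq

open Cfsg.Agent.H696.PSq Equiv

universe u v

theorem conj_pw {C : Type*} [Group C] (g c : C) (t : ZMod 3) : g * pw c t * g⁻¹ = pw (g * c * g⁻¹) t := by
  unfold pw
  rw [conj_pow]

theorem map_pw {C D : Type*} [Group C] [Group D] (f : C →* D) (c : C) (t : ZMod 3) : f (pw c t) = pw (f c) t := by
  unfold pw
  rw [map_pow]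

theorem qh_P₀ : ∀ x ∈ P₀, qh * x * qh⁻¹ ∈ P₀ := by
  rintro _ ⟨k, l, rfl⟩
  have h1 : qh * (pw qa k * pw qb l) * qh⁻¹ = (qh * pw qa k * qh⁻¹) * (qh * pw qb l * qh⁻¹) := by group
  rw [h1, conj_pw, conj_pw, qh_a, qh_b]
  have h2 : pw qa⁻¹ l ∈ P₀ := by
    apply pw_mem
    exact P₀.inv_mem ⟨1, 0, by rw [pw_one, pw_zero, mul_one]⟩
  have h3 : pw qb k ∈ P₀ := ⟨0, k, by rw [pw_zero, one_mul]⟩
  exact P₀.mul_mem h3 h2

theorem qa_mem : qa ∈ P₀ := ⟨1, 0, by rw [pw_one, pw_zero, mul_one]⟩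

/-- the subgroups of order nine containing `A` -/
theorem exists_dir {C : Type*} [Group C] {A : Subgroup C} (hA : A ≤ center C) (hAc : Nat.card A = 3)
    {s : C} (hs3 : s ^ 3 = 1) (hsA : s ∉ A) :
    ∃ X : Subgroup C, (∀ x, x ∈ X ↔ ∃ k : ZMod 3, ∃ c ∈ A, x = pw s k * c) ∧ Nat.card X = 9 := by
  have hc : ∀ c ∈ A, ∀ x : C, x * c = c * x := fun c h x => mem_center_iff.1 (hA h) x
  let X : Subgroup C :=
    { carrier := {x | ∃ k : ZMod 3, ∃ c ∈ A, x = pw s k * c}
      mul_mem' := by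
        rintro _ _ ⟨k, c, h, rfl⟩ ⟨k', c', h', rfl⟩
        refine ⟨k + k', c * c', A.mul_mem h h', ?_⟩
        rw [pw_add hs3, mul_assoc, mul_assoc, ← mul_assoc c, ← hc c h, mul_assoc]
      one_mem' := ⟨0, 1, A.one_mem, by rw [pw_zero, mul_one]⟩
      inv_mem' := by
        rintro _ ⟨k, c, h, rfl⟩
        refine ⟨-k, c⁻¹, A.inv_mem h, ?_⟩
        rw [pw_neg hs3, mul_inv_rev, ← hc _ (A.inv_mem h)] }
  refine ⟨X, fun x => Iff.rfl, ?_⟩
  have hpw : ∀ k : ZMod 3, pw s k ∈ A → k = 0 := by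
    have h3 : ∀ x : ZMod 3, x = 0 ∨ x = 1 ∨ x = 2 := by decide
    intro k hk
    rcases h3 k with rfl | rfl | rfl
    · rfl
    · rw [pw_one] at hk
      exact absurd hk hsA
    · exfalso
      apply hsA
      have h4 : pw s 2 * pw s 2 = s := by
        rw [← pw_add hs3]
        have : (2 + 2 : ZMod 3) = 1 := by decide
        rw [this, pw_one]
      rw [← h4]
      exact A.mul_mem hk hk
  have e : ZMod 3 × A ≃ X := Equiv.ofBijective (fun x => ⟨pw s x.1 * x.2, ⟨x.1, x.2, x.2.2, rfl⟩⟩) (by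
    constructor
    · rintro ⟨k, c, h⟩ ⟨k', c', h'⟩ he
      have h1 : pw s k * c = pw s k' * c' := congrArg Subtype.val he
      have h2 : pw s (k - k') = c' * c⁻¹ := by
        rw [sub_eq_add_neg, pw_add hs3, pw_neg hs3, eq_mul_inv_iff_mul_eq]
        have c1 : Commute (pw s k) (pw s k')⁻¹ := ((Commute.refl s).pow_pow _ _).inv_right
        rw [c1.eq, mul_assoc, h1, inv_mul_cancel_left]
      have h3 : k = k' := sub_eq_zero.1 (hpw _ (by rw [h2]; exact A.mul_mem h' (A.inv_mem h)))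
      subst h3
      exact Prod.ext rfl (Subtype.ext (mul_left_cancel h1))
    · rintro ⟨x, k, c, h, rfl⟩
      exact ⟨(k, ⟨c, h⟩), rfl⟩)
  rw [← Nat.card_congr e, Nat.card_prod, Nat.card_zmod, hAc]

section

variable {G : Type u} [Group G] [Finite G] (f : G →* alternatingGroup (Fin 7))

theorem fact_eq {p k : ℕ} (hp : p.Prime) {n : ℕ} (hn : n ≠ 0) (h1 : p ^ k ∣ n) (h2 : ¬ p ^ (k + 1) ∣ n) :
    n.factorization p = k := by
  have h3 := (hp.pow_dvd_iff_le_factorization hn).1 h1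
  have h4 : ¬ k + 1 ≤ n.factorization p := fun h => h2 ((hp.pow_dvd_iff_le_factorization hn).2 h)
  omega

theorem le_ker (hf : Function.Surjective f) {A : Subgroup G} (hA : A ≤ center G) : A ≤ f.ker := by
  intro x hx
  rw [MonoidHom.mem_ker]
  have h1 : f x ∈ center (alternatingGroup (Fin 7)) := by
    rw [mem_center_iff]
    intro y
    obtain ⟨z, rfl⟩ := hf y
    rw [← map_mul, ← map_mul, mem_center_iff.1 (hA hx) z]
  rwa [alternatingGroup.center_eq_bot (by rw [Nat.card_fin]; norm_num), mem_bot] at h1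

theorem inf_ker (hf : Function.Surjective f) (hk : ¬ 9 ∣ Nat.card f.ker) {A P : Subgroup G}
    (hA : A ≤ center G) (hAc : Nat.card A = 3) (hAP : A ≤ P) (hPc : Nat.card P = 27) :
    P ⊓ f.ker = A := by
  have h1 : Nat.card (P ⊓ f.ker : Subgroup G) ∣ 27 := by
    rw [← hPc]
    exact card_dvd_of_le inf_le_left
  have h2 : Nat.card (P ⊓ f.ker : Subgroup G) ∣ Nat.card f.ker := card_dvd_of_le inf_le_right
  have h3 : ¬ 9 ∣ Nat.card (P ⊓ f.ker : Subgroup G) := fun h => hk (h.trans h2)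
  have h4 : Nat.card (P ⊓ f.ker : Subgroup G) ≤ 3 := by
    have h5 : (27 : ℕ) = 3 ^ 3 := by norm_num
    rw [h5, Nat.dvd_prime_pow Nat.prime_three] at h1
    obtain ⟨k, -, hk'⟩ := h1
    rw [hk'] at h3 ⊢
    by_contra hlt
    apply h3
    have h6 : 2 ≤ k := by
      by_contra hlt'
      have h7 : k = 0 ∨ k = 1 := by omega
      rcases h7 with rfl | rfl <;> norm_num at hlt
    exact (pow_dvd_pow 3 h6)
  exact (eq_of_le_of_card_ge (le_inf hAP (le_ker f hf hA)) (by rw [hAc]; exact h4)).symm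

theorem card_map (hf : Function.Surjective f) (hk : ¬ 9 ∣ Nat.card f.ker) {A P : Subgroup G}
    (hA : A ≤ center G) (hAc : Nat.card A = 3) (hAP : A ≤ P) (hPc : Nat.card P = 27) :
    Nat.card (P.map f) = 9 := by
  have h1 := Subgroup.relIndex_ker P f
  have h2 : (P ⊓ f.ker).relIndex P = f.ker.relIndex P := by
    rw [inf_relIndex_left]
  have h3 := Subgroup.relIndex_mul_index (H := P ⊓ f.ker) (K := P) inf_le_left
  have h4 := (P ⊓ f.ker).card_mul_index
  have h5 := P.card_mul_index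
  rw [inf_ker f hf hk hA hAc hAP hPc] at h2 h3 h4
  rw [hAc] at h4
  rw [hPc] at h5
  have h6 : 0 < P.index := Nat.pos_of_ne_zero index_ne_zero_of_finite
  rw [← h1, ← h2]
  have h7 : 3 * (A.relIndex P * P.index) = 27 * P.index := by rw [h3, h4, h5]
  have h8 : (3 * A.relIndex P) * P.index = 27 * P.index := by rw [← h7]; ring
  have h9 := Nat.eq_of_mul_eq_mul_right h6 h8
  omega

end

end Cfsg.Agent.H117.PSq
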